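import Cfsg.Agent.H241.Own.ExcTwoB
import Cfsg.Agent.H953.Sympl

/-!
# S3499: the socle `E₆(2)` in dimension at least 13 (helper241)

* `dim_le_vec` : one cominuscule node outside `J`, an upper bound for the dimension, explicit vectors;
* `e6_dim` : a module of `E₆(2)` over a field with two elements has dimension at most 27 or at least 29;
* **`two_e6`**.
-/

set_option autoImplicit false
set_option linter.unusedSectionVars false
set_option linter.style.haveILetI false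
set_option linter.style.longLine false

namespace Cfsg.Agent.H241.Own

open Matrix (SpecialLinearGroup)
open Cfsg Cfsg.Geo
open Cfsg.Agent.H911 (lin)
open Cfsg.Agent.H911.SLTwo Cfsg.Agent.H875.Fn
open CoxeterSystem Cfsg.Agent.ChevalleyStructure.CoxeterGeom Cfsg.Agent.Tits.Roots Cfsg.Agent.Tits.Core
  Cfsg.Agent.Tits.Exchange Cfsg.Agent.Nodes.Reps Cfsg.Agent.Nodes.BNOf Cfsg.Agent.Nodes.StabComb
  Cfsg.Agent.Nodes.Bruhat Cfsg.Agent.Nodes.OppDec Cfsg.Agent.Nodes.LeviDec Cfsg.Agent.KFacts.RgdOpp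
  Cfsg.Agent.Omega.CR Cfsg.Agent.Omega.FOne.Lift.Sd Cfsg.Agent.H905.Md Cfsg.Agent.H650.Ppd
open Cfsg.Agent.H905.DC
open Cfsg.Lie Cfsg.Agent.ChevalleyStructure Cfsg.Agent.ChevalleyStructure.CoxeterGeomTypes
  Cfsg.Agent.Nodes.RGDChev
open Cfsg.Agent.H419.EP Cfsg.Agent.H59.EP
open Cfsg.Agent.H64.CrossChev (isType_E6)
open scoped MatrixGroups

/-! ### the upper bound for explicit vectors -/

section upper

variable {I W Y : Type*} [Fintype I] [DecidableEq I] [Group W] [Group Y] {M : CoxeterMatrix I}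
  {cs : CoxeterSystem M W} {A : I → I → ℤ} {h : IsCartan M A} {p : ℕ} {T : Subgroup Y} {n : I → Y}
  {X : (I → ℤ) → Subgroup Y} {k V : Type*} [Field k] [AddCommGroup V] [Module k V]

theorem rep_sum (w : W) (y : I → ℤ) (i : I) : rep cs h w y i = ∑ m, y m * co cs h i w m := by
  have h1 : y = ∑ m, y m • (sr m : I → ℤ) := by
    funext a
    rw [Finset.sum_apply]
    simp [sr, Pi.single_apply]
  conv_lhs => rw [h1]
  rw [map_sum, Finset.sum_apply]
  refine Finset.sum_congr rfl fun m _ => ?_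
  rw [map_smul, Pi.smul_apply, smul_eq_mul]
  rfl

theorem co_mem {i : I} {L : List (I → ℤ)} (h0 : (Pi.single i 1 : I → ℤ) ∈ L) (hL : ∀ c ∈ L, ∀ j, fire A c j ∈ L)
    (w : W) : co cs h i w ∈ L := by
  obtain ⟨ω, rfl⟩ := cs.wordProd_surjective w
  rw [co_wordProd]
  induction ω using List.reverseRecOn with
  | nil => exact h0
  | append_singleton ω j ih =>
    rw [cf, List.foldl_append, List.foldl_cons, List.foldl_nil]
    exact hL _ ih j

theorem dim_le_vec (R : RGD cs h p T n X) [Finite Y] [Finite W] [Fact p.Prime] [CharP k p]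
    {ρ : Y →* Module.End k V} [FiniteDimensional k V] [Nontrivial V]
    (hirr : ∀ L : Submodule k V, Ivt ρ (GG cs h T X) L → L = ⊥ ∨ L = ⊤)
    {i : I} (hi : i ∉ Jx cs h X ρ) (hJ : ∀ j, j ∉ Jx cs h X ρ → j = i)
    (hd : Module.finrank k (Le cs h T X ρ {i}) ≤ 2 * Module.finrank k (D cs h X ρ))
    (L : List (I → ℤ)) (h0 : (Pi.single i 1 : I → ℤ) ∈ L) (hL : ∀ c ∈ L, ∀ j, fire A c j ∈ L)
    (hw : ∀ c ∈ L, ∃ w, co cs h i w = c)
    (hx : ∀ x, IsRoot cs h x → 0 < x i → ∃ w ∈ WJ cs {j | j ≠ i}, rep cs h w (sr i) = x) :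
    Module.finrank k V ≤ L.length * Module.finrank k (D cs h X ρ) := by
  choose w hw' using fun a : Fin L.length => hw (L.get a) (List.get_mem L a)
  have hJJ : ({j | j ≠ i} : Set I) ⊆ Jx cs h X ρ := by
    intro j hj
    by_contra hcon
    exact hj (hJ j hcon)
  have h1 := dim_le R hirr (fun j hj => by rw [hJ j hj]; exact hd) (by
    rintro x ⟨hxr, hx0, j, hj, hxj⟩
    rw [hJ j hj] at hxj
    obtain ⟨v, hv, rfl⟩ := hx x hxr hxj
    refine ⟨v, ?_, i, hi, rfl⟩
    refine Subgroup.closure_mono ?_ hv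
    rintro _ ⟨j', hj', rfl⟩
    exact ⟨j', hJJ hj', rfl⟩) (α := Fin L.length) (fun a => (w a)⁻¹) (by
    intro v
    obtain ⟨a, ha⟩ := List.mem_iff_get.1 (co_mem (cs := cs) (h := h) h0 hL v⁻¹)
    refine ⟨a, ?_⟩
    rw [inv_inv, mem_WJ_iff (h := h)]
    intro x j hj
    rw [hJ j hj, rep_mul_apply, rep_sum, hw', ha, ← rep_sum, rep_inv_apply])
  rwa [Fintype.card_fin] at h1

end upper

/-! ### the roots of `E₆` -/

/-- the kernel check -/
def chkR (i₀ : ℕ) : Bool := (List.range 72).all fun r => decide (RootVec.rt chevE6 r i₀ ≤ 0) ||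
  decide (r = chevE6.simple i₀) || (List.range 6).any fun j => decide (j ≠ i₀) && decide (chevE6.reflectRoot j r < r)

theorem chkR_0 : chkR ((0 : Fin 6) : ℕ) = true := by decide +kernel

theorem chkR_5 : chkR ((5 : Fin 6) : ℕ) = true := by decide +kernel

theorem nroots_six : chevE6.nroots = 72 := by decide +kernel

theorem cartan_six : cartanOf chevE6 6 = cE6 := by
  funext i j
  revert i j
  decide +kernel


section roots

variable {W : Type*} [Group W] (cs : CoxeterSystem CoxeterMatrix.E₆ W)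

theorem root_orbit {i₀ : Fin 6} (hchk : chkR i₀ = true) : ∀ (m r : ℕ), r < chevE6.nroots → r ≤ m →
    0 < vec chevE6 6 r i₀ → ∃ w ∈ WJ cs {j | j ≠ i₀}, rep cs isType_E6.isCartan w (sr i₀) = vec chevE6 6 r := by
  intro m
  induction m with
  | zero =>
    intro r hr hm hpos
    have h1 := (List.all_eq_true.1 hchk) r (List.mem_range.2 (by rwa [← nroots_six]))
    rw [Bool.or_eq_true, Bool.or_eq_true] at h1
    rcases h1 with (h1 | h1) | h1
    · exact absurd (of_decide_eq_true h1) (not_le.2 hpos)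
    · refine ⟨1, one_mem _, ?_⟩
      rw [map_one, Module.End.one_apply, of_decide_eq_true h1, vec_simple isType_E6]
    · obtain ⟨j, -, h2⟩ := List.any_eq_true.1 h1
      rw [Bool.and_eq_true] at h2
      have h3 := of_decide_eq_true h2.2
      omega
  | succ m ih =>
    intro r hr hm hpos
    have h1 := (List.all_eq_true.1 hchk) r (List.mem_range.2 (by rwa [← nroots_six]))
    rw [Bool.or_eq_true, Bool.or_eq_true] at h1
    rcases h1 with (h1 | h1) | h1
    · exact absurd (of_decide_eq_true h1) (not_le.2 hpos)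
    · refine ⟨1, one_mem _, ?_⟩
      rw [map_one, Module.End.one_apply, of_decide_eq_true h1, vec_simple isType_E6]
    · obtain ⟨j, hj, h2⟩ := List.any_eq_true.1 h1
      rw [Bool.and_eq_true] at h2
      have h3 := of_decide_eq_true h2.2
      have h4 := of_decide_eq_true h2.1
      have hj' : j < 6 := List.mem_range.1 hj
      have h5 := rep_vec isType_E6 cs ⟨j, hj'⟩ hr
      have hlt : chevE6.reflectRoot j r < chevE6.nroots :=
        NPerm.reflectRoot_lt isType_E6.inList (lt_rank isType_E6 ⟨j, hj'⟩) hr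
      have hne : i₀ ≠ ⟨j, hj'⟩ := by
        rintro rfl
        exact h4 rfl
      have h6 : vec chevE6 6 (chevE6.reflectRoot j r) i₀ = vec chevE6 6 r i₀ := by
        have h7 := congrFun h5 i₀
        rw [rep_simple_eq, Pi.sub_apply, Pi.smul_apply, sr_ne hne, smul_zero, sub_zero] at h7
        exact h7.symm
      obtain ⟨w, hw, hw'⟩ := ih (chevE6.reflectRoot j r) hlt (by omega) (by rw [h6]; exact hpos)
      refine ⟨cs.simple ⟨j, hj'⟩ * w, mul_mem (Subgroup.subset_closure ⟨_, hne.symm, rfl⟩) hw, ?_⟩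
      rw [rep_mul_apply, hw', ← h5, ← rep_mul_apply, cs.simple_mul_simple_self, map_one, Module.End.one_apply]

theorem root_orbit' {i₀ : Fin 6} (hchk : chkR i₀ = true) {x : Fin 6 → ℤ} (hx : IsRoot cs isType_E6.isCartan x)
    (hpos : 0 < x i₀) : ∃ w ∈ WJ cs {j | j ≠ i₀}, rep cs isType_E6.isCartan w (sr i₀) = x := by
  obtain ⟨r, hr, rfl⟩ := (isRoot_iff isType_E6 cs x).1 hx
  exact root_orbit cs hchk r r hr le_rfl hpos

end roots

/-- the orbit of type `0` -/
def LE0 : List (Fin 6 → ℤ) :=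
  [![0, 0, 0, 0, 0, -1], ![0, 0, 0, 0, -1, 1], ![0, 0, 0, -1, 1, 0], ![0, -1, -1, 1, 0, 0], ![0, 1, -1, 0, 0, 0], ![-1, -1, 1, 0, 0, 0], ![1, -1, 0,
  0, 0, 0], ![-1, 1, 1, -1, 0, 0], ![1, 1, 0, -1, 0, 0], ![-1, 0, 0, 1, -1, 0], ![1, 0, -1, 1, -1, 0], ![-1, 0, 0, 0, 1, -1], ![0, 0, 1, 0, -1, 0],
  ![1, 0, -1, 0, 1, -1], ![-1, 0, 0, 0, 0, 1], ![0, 0, 1, -1, 1, -1], ![1, 0, -1, 0, 0, 1], ![0, -1, 0, 1, 0, -1], ![0, 0, 1, -1, 0, 1], ![0, 1, 0,
  0, 0, -1], ![0, -1, 0, 1, -1, 1], ![0, 1, 0, 0, -1, 1], ![0, -1, 0, 0, 1, 0], ![0, 1, 0, -1, 1, 0], ![0, 0, -1, 1, 0, 0], ![-1, 0, 1, 0, 0, 0],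
  ![1, 0, 0, 0, 0, 0]]

theorem chn_LE0 : H2.Ppd.chn (cartanOf chevE6 6) (Pi.single 0 1) LE0 = true := by
  rw [cartan_six]
  decide +kernel

theorem mem_LE0 : (Pi.single 0 1 : Fin 6 → ℤ) ∈ LE0 := by decide +kernel

theorem fire_LE0 : ∀ c ∈ LE0, ∀ j, fire (cartanOf chevE6 6) c j ∈ LE0 := by
  rw [cartan_six]
  decide +kernel

/-- the orbit of type `5` -/
def LE5 : List (Fin 6 → ℤ) :=
  [![-1, 0, 0, 0, 0, 0], ![1, 0, -1, 0, 0, 0], ![0, 0, 1, -1, 0, 0], ![0, -1, 0, 1, -1, 0], ![0, 1, 0, 0, -1, 0], ![0, -1, 0, 0, 1, -1], ![0, 1, 0,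
  -1, 1, -1], ![0, -1, 0, 0, 0, 1], ![0, 0, -1, 1, 0, -1], ![0, 1, 0, -1, 0, 1], ![-1, 0, 1, 0, 0, -1], ![0, 0, -1, 1, -1, 1], ![1, 0, 0, 0, 0, -1],
  ![-1, 0, 1, 0, -1, 1], ![0, 0, -1, 0, 1, 0], ![1, 0, 0, 0, -1, 1], ![-1, 0, 1, -1, 1, 0], ![1, 0, 0, -1, 1, 0], ![-1, -1, 0, 1, 0, 0], ![-1, 1, 0,
  0, 0, 0], ![1, -1, -1, 1, 0, 0], ![1, 1, -1, 0, 0, 0], ![0, -1, 1, 0, 0, 0], ![0, 1, 1, -1, 0, 0], ![0, 0, 0, 1, -1, 0], ![0, 0, 0, 0, 1, -1], ![0,
  0, 0, 0, 0, 1]]

theorem chn_LE5 : H2.Ppd.chn (cartanOf chevE6 6) (Pi.single 5 1) LE5 = true := by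
  rw [cartan_six]
  decide +kernel

theorem mem_LE5 : (Pi.single 5 1 : Fin 6 → ℤ) ∈ LE5 := by decide +kernel

theorem fire_LE5 : ∀ c ∈ LE5, ∀ j, fire (cartanOf chevE6 6) c j ∈ LE5 := by
  rw [cartan_six]
  decide +kernel


section dims

variable {W Y : Type*} [Group W] [Group Y] {cs : CoxeterSystem CoxeterMatrix.E₆ W} {p : ℕ} {T : Subgroup Y}
  {n : Fin 6 → Y} {X : (Fin 6 → ℤ) → Subgroup Y} {k V : Type*} [Field k] [AddCommGroup V] [Module k V]
  (R : RGD cs isType_E6.isCartan p T n X) [Finite Y] [Finite W] [Fact p.Prime] [CharP k p]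
  {ρ : Y →* Module.End k V} [FiniteDimensional k V] [Nontrivial V]
  (hirr : ∀ L : Submodule k V, Ivt ρ (GG cs isType_E6.isCartan T X) L → L = ⊥ ∨ L = ⊤)
include R hirr

theorem e6_node {i : Fin 6} (hi : i ∉ Jx cs isType_E6.isCartan X ρ) (h0 : i ≠ 0) (h5 : i ≠ 5) :
    29 * Module.finrank k (D cs isType_E6.isCartan X ρ) ≤ Module.finrank k V := by
  have key : ∀ L : List (List (Fin 6)), (L.map (cf cE6 i)).Nodup →
      L.length * Module.finrank k (D cs isType_E6.isCartan X ρ) ≤ Module.finrank k V := by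
    intro L hL
    rw [← cartan_six] at hL
    exact (Nat.le_add_right _ _).trans (dim_ge_list R hirr hi L [] hL (by simp))
  fin_cases i
  · exact absurd rfl h0
  · exact key [[], [1], [1, 3], [1, 3, 2], [1, 3, 4], [1, 3, 2, 0], [1, 3, 2, 4], [1, 3, 4, 5], [1, 3, 2, 0, 4], [1, 3, 2, 4, 3], [1, 3, 2, 4, 5], [1, 3, 2,
      0, 4, 3], [1, 3, 2, 0, 4, 5], [1, 3, 2, 4, 3, 1], [1, 3, 2, 4, 3, 5], [1, 3, 2, 0, 4, 3, 1], [1, 3, 2, 0, 4, 3, 2], [1, 3, 2, 0, 4, 3, 5], [1,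
      3, 2, 4, 3, 1, 5], [1, 3, 2, 4, 3, 5, 4], [1, 3, 2, 0, 4, 3, 1, 2], [1, 3, 2, 0, 4, 3, 1, 5], [1, 3, 2, 0, 4, 3, 2, 5], [1, 3, 2, 0, 4, 3, 5,
      4], [1, 3, 2, 4, 3, 1, 5, 4], [1, 3, 2, 0, 4, 3, 1, 2, 3], [1, 3, 2, 0, 4, 3, 1, 2, 5], [1, 3, 2, 0, 4, 3, 1, 5, 4], [1, 3, 2, 0, 4, 3, 2, 5,
      4]]
      (by decide +kernel)
  · exact key [[], [2], [2, 0], [2, 3], [2, 0, 3], [2, 3, 1], [2, 3, 4], [2, 0, 3, 1], [2, 0, 3, 2], [2, 0, 3, 4], [2, 3, 1, 4], [2, 3, 4, 5], [2, 0, 3, 1,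
      2], [2, 0, 3, 1, 4], [2, 0, 3, 2, 4], [2, 0, 3, 4, 5], [2, 3, 1, 4, 3], [2, 3, 1, 4, 5], [2, 0, 3, 1, 2, 3], [2, 0, 3, 1, 2, 4], [2, 0, 3, 1,
      4, 3], [2, 0, 3, 1, 4, 5], [2, 0, 3, 2, 4, 3], [2, 0, 3, 2, 4, 5], [2, 3, 1, 4, 3, 2], [2, 3, 1, 4, 3, 5], [2, 0, 3, 1, 2, 3, 4], [2, 0, 3, 1,
      2, 4, 3], [2, 0, 3, 1, 2, 4, 5]]
      (by decide +kernel)
  · exact key [[], [3], [3, 1], [3, 2], [3, 4], [3, 1, 2], [3, 1, 4], [3, 2, 0], [3, 2, 4], [3, 4, 5], [3, 1, 2, 0], [3, 1, 2, 3], [3, 1, 2, 4], [3, 1, 4,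
      3], [3, 1, 4, 5], [3, 2, 0, 4], [3, 2, 4, 3], [3, 2, 4, 5], [3, 1, 2, 0, 3], [3, 1, 2, 0, 4], [3, 1, 2, 3, 4], [3, 1, 2, 4, 3], [3, 1, 2, 4,
      5], [3, 1, 4, 3, 2], [3, 1, 4, 3, 5], [3, 2, 0, 4, 3], [3, 2, 0, 4, 5], [3, 2, 4, 3, 1], [3, 2, 4, 3, 5]]
      (by decide +kernel)
  · exact key [[], [4], [4, 3], [4, 5], [4, 3, 1], [4, 3, 2], [4, 3, 5], [4, 3, 1, 2], [4, 3, 1, 5], [4, 3, 2, 0], [4, 3, 2, 5], [4, 3, 5, 4], [4, 3, 1, 2,
      0], [4, 3, 1, 2, 3], [4, 3, 1, 2, 5], [4, 3, 1, 5, 4], [4, 3, 2, 0, 5], [4, 3, 2, 5, 4], [4, 3, 1, 2, 0, 3], [4, 3, 1, 2, 0, 5], [4, 3, 1, 2,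
      3, 4], [4, 3, 1, 2, 3, 5], [4, 3, 1, 2, 5, 4], [4, 3, 1, 5, 4, 3], [4, 3, 2, 0, 5, 4], [4, 3, 2, 5, 4, 3], [4, 3, 1, 2, 0, 3, 2], [4, 3, 1, 2,
      0, 3, 4], [4, 3, 1, 2, 0, 3, 5]]
      (by decide +kernel)
  · exact absurd rfl h5

theorem e6_two (h0 : (0 : Fin 6) ∉ Jx cs isType_E6.isCartan X ρ) (h5 : (5 : Fin 6) ∉ Jx cs isType_E6.isCartan X ρ) :
    29 * Module.finrank k (D cs isType_E6.isCartan X ρ) ≤ Module.finrank k V := by
  have key : ∀ L : List (List (Fin 6)), (L.map fun ω => (cf cE6 0 ω, cf cE6 5 ω)).Nodup →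
      L.length * Module.finrank k (D cs isType_E6.isCartan X ρ) ≤ Module.finrank k V := by
    intro L hL
    rw [← cartan_six] at hL
    exact (Nat.le_add_right _ _).trans (dim_ge_list_two R hirr h0 h5 (by decide) L [] [] hL (by simp) (by simp))
  exact key [[], [0], [5], [0, 2], [0, 5], [5, 4], [0, 2, 3], [0, 2, 5], [0, 5, 4], [5, 4, 3], [0, 2, 3, 1], [0, 2, 3, 4], [0, 2, 3, 5], [0, 2, 5, 4], [0,
      5, 4, 3], [5, 4, 3, 1], [5, 4, 3, 2], [0, 2, 3, 1, 4], [0, 2, 3, 1, 5], [0, 2, 3, 4, 5], [0, 2, 3, 5, 4], [0, 2, 5, 4, 3], [0, 5, 4, 3, 1], [0,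
      5, 4, 3, 2], [5, 4, 3, 1, 2], [5, 4, 3, 2, 0], [0, 2, 3, 1, 4, 3], [0, 2, 3, 1, 4, 5], [0, 2, 3, 1, 5, 4]]
      (by decide +kernel)

theorem e6_le {i : Fin 6} (hi : i ∉ Jx cs isType_E6.isCartan X ρ) (hJ : ∀ j, j ∉ Jx cs isType_E6.isCartan X ρ → j = i)
    (hi05 : i = 0 ∨ i = 5)
    (hd : Module.finrank k (Le cs isType_E6.isCartan T X ρ {i}) ≤ 2 * Module.finrank k (D cs isType_E6.isCartan X ρ)) :
    Module.finrank k V ≤ 27 * Module.finrank k (D cs isType_E6.isCartan X ρ) := by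
  rcases hi05 with rfl | rfl
  · have h1 := dim_le_vec R hirr hi hJ hd LE0 mem_LE0 fire_LE0
      (H2.Ppd.exists_of_chn cs isType_E6.isCartan chn_LE0).1 fun x hx hpos => root_orbit' cs chkR_0 hx hpos
    rwa [show LE0.length = 27 from by decide +kernel] at h1
  · have h1 := dim_le_vec R hirr hi hJ hd LE5 mem_LE5 fire_LE5
      (H2.Ppd.exists_of_chn cs isType_E6.isCartan chn_LE5).1 fun x hx hpos => root_orbit' cs chkR_5 hx hpos
    rwa [show LE5.length = 27 from by decide +kernel] at h1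

end dims


section main

variable {F : Type} [Field F] [Fintype F] {ι : Type} [Fintype ι] [DecidableEq ι] [Nonempty ι]
  {P : Subgroup (GL ι F)} [CharP F 2] {K : Type} [Field K] [Fintype K] [CharP K 2]
  {φ : ↥(chevE6.group K) →* GL ι F} (hφ : φ.range = P)
  (hP : ActsAbsolutelyIrreducibly (matrixSet P)) (h2 : 2 ≤ Fintype.card ι) (hF : Fintype.card F = 2)
  (hK : Fintype.card K = 2)
include hφ hP h2 hF hK

/-- **The dimension of a module of `E₆(2)` over a field with two elements.** -/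
theorem e6_dim : 29 ≤ Fintype.card ι ∨ Fintype.card ι ≤ 27 := by
  have hp : Fact (Nat.Prime 2) := ⟨Nat.prime_two⟩
  have hW : Finite CoxeterMatrix.E₆.Group := finite_W isType_E6 CoxeterMatrix.E₆.toCoxeterSystem
  have hchar : CharP (AlgebraicClosure F) 2 := charP_of_injective_algebraMap (algebraMap F _).injective 2
  have R := rgd (K := K) isType_E6 CoxeterMatrix.E₆.toCoxeterSystem 2
  have hG := KFacts.Mult.RGDW.GG_eq_top_of_G1 (G1_eq_top (K := K) isType_E6 CoxeterMatrix.E₆.toCoxeterSystem)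
    (T := (chevE6.diagonalSubgroup K).subgroupOf (chevE6.group K))
  have hT : ∀ s ∈ (chevE6.diagonalSubgroup K).subgroupOf (chevE6.group K),
      ∀ t ∈ (chevE6.diagonalSubgroup K).subgroupOf (chevE6.group K), s * t = t * s :=
    fun s hs t ht' => Subtype.ext (H2.Ppd.diag_comm isType_E6.inList hs ht')
  have hirr := ac_irr R hG hT hφ hP
  have hD := finrank_D R hirr hT
  have hfin : Module.finrank (AlgebraicClosure F) (ι → AlgebraicClosure F) = Fintype.card ι :=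
    Module.finrank_fintype_fun_eq_card _
  obtain ⟨i, hi⟩ := exists_not_mem R hirr (by rw [hD, hfin]; omega)
  -- the edges
  have hedge : ∀ j : Fin 6, j ∉ Jx CoxeterMatrix.E₆.toCoxeterSystem isType_E6.isCartan
      (fun x => (XV chevE6 6 K x).subgroupOf (chevE6.group K)) (lin (acRep φ)) →
      Module.finrank (AlgebraicClosure F) (Le CoxeterMatrix.E₆.toCoxeterSystem isType_E6.isCartan
        ((chevE6.diagonalSubgroup K).subgroupOf (chevE6.group K))
        (fun x => (XV chevE6 6 K x).subgroupOf (chevE6.group K)) (lin (acRep φ)) {j}) ≤ 2 := by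
    intro j hj
    obtain ⟨c, hc, hc0, χ, hχ⟩ := exists_chi R hirr hT
    obtain ⟨ι₀⟩ := Cfsg.Agent.H875.Psl2.exists_emb F K 2
    obtain ⟨r₀, hr0, hrlt, -, hd⟩ := edge_data R hG hT hφ hP (H744.Ppd.sg_nd isType_E6 CoxeterMatrix.E₆.toCoxeterSystem 2 j)
      hj (a := 1) (f := 1) (s := 1) (by rw [Nat.card_eq_fintype_card, hF, pow_one])
      (by rw [Nat.card_eq_fintype_card, hK, pow_one]) (by norm_num) ι₀ hc hc0 hχ
    rw [hd, pow_one]
    have h1 : r₀ = 1 := by
      norm_num at hrlt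
      omega
    rw [h1]
    decide +kernel
  by_cases h05 : ∃ j : Fin 6, j ∉ Jx CoxeterMatrix.E₆.toCoxeterSystem isType_E6.isCartan
      (fun x => (XV chevE6 6 K x).subgroupOf (chevE6.group K)) (lin (acRep φ)) ∧ j ≠ 0 ∧ j ≠ 5
  · obtain ⟨j, hj, h0, h5⟩ := h05
    have h1 := e6_node R hirr hj h0 h5
    rw [hD, hfin] at h1
    left
    omega
  · push Not at h05
    by_cases hboth : (0 : Fin 6) ∉ Jx CoxeterMatrix.E₆.toCoxeterSystem isType_E6.isCartan
        (fun x => (XV chevE6 6 K x).subgroupOf (chevE6.group K)) (lin (acRep φ)) ∧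
      (5 : Fin 6) ∉ Jx CoxeterMatrix.E₆.toCoxeterSystem isType_E6.isCartan
        (fun x => (XV chevE6 6 K x).subgroupOf (chevE6.group K)) (lin (acRep φ))
    · have h1 := e6_two R hirr hboth.1 hboth.2
      rw [hD, hfin] at h1
      left
      omega
    · right
      have h6 : i = 0 ∨ i = 5 := by
        by_cases h0 : i = 0
        · exact Or.inl h0
        · exact Or.inr (h05 i hi h0)
      have hJ : ∀ j, j ∉ Jx CoxeterMatrix.E₆.toCoxeterSystem isType_E6.isCartan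
          (fun x => (XV chevE6 6 K x).subgroupOf (chevE6.group K)) (lin (acRep φ)) → j = i := by
        intro j hj
        have h7 : j = 0 ∨ j = 5 := by
          by_cases h0 : j = 0
          · exact Or.inl h0
          · exact Or.inr (h05 j hj h0)
        rcases h6 with rfl | rfl <;> rcases h7 with rfl | rfl
        · rfl
        · exact absurd ⟨hi, hj⟩ hboth
        · exact absurd ⟨hj, hi⟩ hboth
        · rfl
      have h1 := e6_le R hirr hi hJ h6 (by rw [hD]; exact hedge i hi)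
      rw [hD, hfin] at h1
      omega

end main

section row

theorem even_two {ι : Type} [Fintype ι] [DecidableEq ι] {F : Type*} [Field F] {Qf : (ι → F) → F}
    (hQ : IsNondegenerateQuadraticForm Qf) (h2 : (2 : F) = 0) : Even (Fintype.card ι) := by
  have hp := hQ.polar_bilinear
  have halt : ∀ v, QuadraticMap.polar Qf v v = 0 := by
    intro v
    have h0 : Qf (v + v) = 4 * Qf v := by
      have h1 := hQ.smul 2 v
      rw [two_smul] at h1
      rw [h1]; ring
    show Qf (v + v) - Qf v - Qf v = 0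
    rw [h0]
    linear_combination Qf v * h2
  have hs : IsSymplecticForm (QuadraticMap.polar Qf) := ⟨hp, fun v w => by
    have h1 : QuadraticMap.polar Qf v w = QuadraticMap.polar Qf w v := QuadraticMap.polar_comm _ _ _
    rw [h1]
    linear_combination QuadraticMap.polar Qf w v * h2, halt, hQ.nondegenerate⟩
  have h3 := Cfsg.Agent.H953.even_finrank_of_alt (Cfsg.Agent.H953.toBil hs) halt (by
    intro u hu
    by_contra hne
    obtain ⟨-, x, hx⟩ := hQ.nondegenerate u hne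
    exact hx (hu x))
  rwa [Module.finrank_fintype_fun_eq_card] at h3

variable {Q : Type} [Group Q] [Finite Q] {A : Subgroup Q} {Γ : Subgroup (MulAut Q)} {ι : Type} [Fintype ι]
    [DecidableEq ι] {F : Type} [Field F] [Fintype F] {S P : Subgroup (GL ι F)}

/-- **Socle `E₆(2)`.** -/
theorem two_e6 (b : Big A Γ S P) {K : Type} [Field K] [Fintype K] (hg : TwoGen.{0}) (hK : Fintype.card K = 2)
    (hc : ringChar F = ringChar K) (e : Nonempty (socle P ≃* ↥(Lie.chevE6.group K))) : False := by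
  obtain ⟨e⟩ := e
  obtain ⟨hQ, hAle⟩ := ub_E6 hg b hK e
  have hcK : CharP K 2 := charP_two (n := 1) (by rw [hK, pow_one])
  have hcF : CharP F 2 := by
    have h1 : ringChar F = 2 := hc.trans (ringChar.eq K 2)
    exact h1 ▸ ringChar.charP F
  have hn := two_chev b hK hc isType_E6 Cfsg.Agent.KFacts.MulOdd.InstChev.parity_E6 (c := 27)
    (fun _ J i hi => H243.EP.index_E6 _ hi) e
  have hF1 : 2 ≤ Fintype.card F := Fintype.one_lt_card
  rcases Nat.lt_or_ge 2 (Fintype.card F) with hF3 | hF3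
  · -- `|F| ≥ 4`
    have hp : Fact (Nat.Prime 2) := ⟨Nat.prime_two⟩
    obtain ⟨a, -, hF⟩ := FiniteField.card F 2
    have h4 : 2 ^ 2 ≤ Fintype.card F := by
      rw [hF] at hF3 ⊢
      refine Nat.pow_le_pow_right (by norm_num) ?_
      by_contra hcon
      have h5 : (a : ℕ) = 1 := by
        have := a.pos
        omega
      rw [h5] at hF3
      omega
    refine kill_num b hQ hAle (E := 2 * (27 * (27 - 1) / 2)) ?_ (by decide +kernel)
    rw [pow_mul]
    have h1 : 27 * (27 - 1) / 2 ≤ Fintype.card ι * (Fintype.card ι - 1) / 2 :=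
      Nat.div_le_div_right (Nat.mul_le_mul hn (by omega))
    exact (Nat.pow_le_pow_right (by norm_num) h1).trans (Nat.pow_le_pow_left h4 _)
  · -- `|F| = 2`
    have hF : Fintype.card F = 2 := by omega
    have hne : Nonempty ι := nonempty_of_big b
    have hC := H915.LD.core_of_residual b.core
    -- no scalars
    have hsc : ((scalars ι F).subgroupOf P) = ⊥ := by
      rw [eq_bot_iff]
      intro g hg
      rw [Subgroup.mem_bot]
      obtain ⟨c, hc'⟩ := (mem_scalars_iff _).1 (Subgroup.mem_subgroupOf.1 hg)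
      have h1 : c = 1 := by
        have h2 : Nat.card Fˣ = 1 := by rw [Nat.card_units, Nat.card_eq_fintype_card, hF]
        have h3 := (Nat.card_eq_one_iff_unique.1 h2).1
        exact Subsingleton.elim _ _
      rw [h1, Units.val_one, one_smul] at hc'
      exact Subtype.ext (Units.ext hc')
    let f : P ≃* ↥(chevE6.group K) :=
      ((QuotientGroup.quotientMulEquivOfEq hsc).trans QuotientGroup.quotientBot).symm.trans e
    have hφ : (P.subtype.comp f.symm.toMonoidHom).range = P := by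
      rw [MonoidHom.range_comp, MonoidHom.range_eq_top.2 f.symm.surjective, ← MonoidHom.range_eq_map,
        Subgroup.range_subtype]
    rcases e6_dim hφ hC.absIrred (by omega) hF hK with h29 | h27
    · exact kill_num b hQ hAle (E := 29 * (29 - 1) / 2) (pow_le_of h29 hF1) (by decide +kernel)
    · have hcard : Fintype.card ι = 27 := le_antisymm h27 hn
      rcases b.kind with ⟨-, ho, -, -, -⟩ | ⟨f, -, -, h3, -, -, -⟩ | ⟨q, hq, σ, f, -, -, -, -, -, -⟩ |
        ⟨Qf, hQf, -, -, -⟩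
      · rw [hF, hcard] at ho
        have h1 : Nat.card A ^ 5 * 14 ≤ (214841575522005575270400 * 2) ^ 5 * 14 :=
          Nat.mul_le_mul_right _ (Nat.pow_le_pow_left hAle 5)
        have h2 : (214841575522005575270400 * 2) ^ 5 * 14 < 10000 * 2 ^ (27 ^ 2 - 2) := by decide +kernel
        have h3 : 10000 * 2 ^ (27 ^ 2 - 2) ≤ 10000 * Nat.card Q := Nat.mul_le_mul_left _ ho
        exact absurd ((h3.trans hQ).trans h1) (not_le.2 h2)
      · omega
      · rw [hF] at hq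
        have h1 : q < 2 := by
          by_contra hcon
          have h2 : 2 ^ 2 ≤ q ^ 2 := Nat.pow_le_pow_left (not_lt.1 hcon) 2
          omega
        interval_cases q <;> omega
      · have h1 := even_two hQf (by
          have h2 := CharP.cast_eq_zero F 2
          exact_mod_cast h2)
        rw [hcard] at h1
        exact absurd h1 (by decide)

end row

end Cfsg.Agent.H241.Own
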